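import Mathlib
import Cfsg.Prelude.Def_Transfer
import Cfsg.Agent.Lib.Basics.Schmidt

/-!
# Minimal covers by nilpotent subgroups: abelian Sylow subgroups
-/

set_option autoImplicit false
set_option linter.style.haveILetI false

namespace Cfsg.Agent.Cover23

variable {G : Type*} [Group G] [Finite G]

/-- A minimal cover by nilpotent proper subgroups. -/
def IsNilMinCover (𝓐 : Finset (Subgroup G)) : Prop :=
  ((∀ A ∈ 𝓐, A ≠ ⊤) ∧ (∀ g : G, ∃ A ∈ 𝓐, g ∈ A)) ∧ (∀ 𝓑 : Finset (Subgroup G), (∀ A ∈ 𝓑, A ≠ ⊤) ∧ (∀ g : G, ∃ A ∈ 𝓑, g ∈ A) → 𝓐.card ≤ 𝓑.card) ∧ (∀ A ∈ 𝓐, Group.IsNilpotent ↥A)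

theorem eq_of_le_proper {𝓐 : Finset (Subgroup G)} (h : IsNilMinCover 𝓐) {H A B : Subgroup G}
    (hH : H ≠ ⊤) (hA : A ∈ 𝓐) (hB : B ∈ 𝓐) (hAH : A ≤ H) (hBH : B ≤ H) : A = B := by
  classical
  by_contra hne
  have h1 := h.2.1 (insert H ((𝓐.erase A).erase B)) ⟨fun X hX => ?_, fun g => ?_⟩
  · have h2 := Finset.card_insert_le H ((𝓐.erase A).erase B)
    have h3 := Finset.card_erase_add_one hA
    have h4 := Finset.card_erase_add_one (Finset.mem_erase.mpr ⟨Ne.symm hne, hB⟩)
    omega
  · rcases Finset.mem_insert.mp hX with rfl | hX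
    · exact hH
    · exact h.1.1 X (Finset.mem_of_mem_erase (Finset.mem_of_mem_erase hX))
  · obtain ⟨X, hX, hg⟩ := h.1.2 g
    by_cases hc : X = A ∨ X = B
    · exact ⟨H, Finset.mem_insert_self _ _, hc.elim (fun e => hAH (e ▸ hg)) (fun e => hBH (e ▸ hg))⟩
    · rw [not_or] at hc
      exact ⟨X, Finset.mem_insert_of_mem (Finset.mem_erase.mpr ⟨hc.2, Finset.mem_erase.mpr ⟨hc.1, hX⟩⟩), hg⟩

theorem mem_of_mul_mem {A : Subgroup G} {x y : G} (hc : Commute x y)
    (hco : (orderOf x).Coprime (orderOf y)) (h : x * y ∈ A) : x ∈ A ∧ y ∈ A := by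
  obtain ⟨k, hk1, hk2⟩ := Nat.chineseRemainder hco 1 0
  have e : (x * y) ^ k = x := by
    rw [hc.mul_pow, pow_eq_pow_iff_modEq.mpr hk1, pow_one, pow_eq_pow_iff_modEq.mpr hk2, pow_zero, mul_one]
  have hx : x ∈ A := e ▸ pow_mem h k
  exact ⟨hx, (Subgroup.mul_mem_cancel_left _ hx).mp h⟩

variable {p : ℕ} [Fact p.Prime]

theorem le_centralizer_of_mem {A : Subgroup G} (hA : Group.IsNilpotent ↥A) (P : Sylow p G)
    (hab : IsMulCommutative ↥(P : Subgroup G)) {z : G} (hz : z ∈ A) (hzp : ∃ k, z ^ p ^ k = 1) :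
    A ≤ Subgroup.centralizer ({z} : Set G) := by
  suffices (Subgroup.centralizer ({z} : Set G)).subgroupOf A = ⊤ from Subgroup.subgroupOf_eq_top.mp this
  refine Basics.eq_top_of_sylow_le _ fun q hq _ => ?_
  haveI := hq
  obtain ⟨k, hk⟩ := hzp
  by_cases hqp : q = p
  · subst hqp
    have hzg : IsPGroup q ↥(Subgroup.zpowers (⟨z, hz⟩ : ↥A)) := by
      obtain ⟨i, -, hi⟩ := (Nat.dvd_prime_pow hq.out).mp
        (orderOf_dvd_of_pow_eq_one (x := (⟨z, hz⟩ : ↥A)) (n := q ^ k) (Subtype.ext hk))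
      exact IsPGroup.of_card (n := i) (by rw [Nat.card_zpowers, hi])
    obtain ⟨Q, hQ⟩ := hzg.exists_le_sylow
    refine ⟨Q, fun a ha => ?_⟩
    obtain ⟨R, hR⟩ := (Q.isPGroup'.map A.subtype).exists_le_sylow
    obtain ⟨g, hg⟩ := MulAction.exists_smul_eq G P R
    have h1 : (a : G) ∈ (R : Subgroup G) := hR ⟨a, ha, rfl⟩
    have h2 : z ∈ (R : Subgroup G) := hR ⟨⟨z, hz⟩, hQ (Subgroup.mem_zpowers _), rfl⟩
    rw [← hg, Sylow.coe_subgroup_smul, Subgroup.mem_pointwise_smul_iff_inv_smul_mem] at h1 h2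
    have h3 := congrArg Subtype.val (hab.is_comm.comm ⟨_, h1⟩ ⟨_, h2⟩)
    simp only [Subgroup.coe_mul] at h3
    rw [← smul_mul', ← smul_mul'] at h3
    rw [Subgroup.mem_subgroupOf, Subgroup.mem_centralizer_singleton_iff]
    exact MulAction.injective _ h3
  · obtain ⟨Q⟩ : Nonempty (Sylow q ↥A) := inferInstance
    refine ⟨Q, fun a ha => ?_⟩
    rw [Subgroup.mem_subgroupOf, Subgroup.mem_centralizer_singleton_iff]
    refine (Basics.commute_of_coprime_le hA a.2 hz ?_).eq
    obtain ⟨j, hj⟩ := Q.isPGroup' ⟨a, ha⟩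
    have hj' : (a : G) ^ q ^ j = 1 := by simpa [Subtype.ext_iff] using hj
    exact Nat.Coprime.coprime_dvd_left (orderOf_dvd_of_pow_eq_one hj')
      (Nat.Coprime.coprime_dvd_right (orderOf_dvd_of_pow_eq_one hk)
        (Nat.coprime_pow_primes _ _ hq.out Fact.out hqp))

theorem member_unique (hZ : Subgroup.center G = ⊥) {𝓐 : Finset (Subgroup G)} (h : IsNilMinCover 𝓐)
    (P : Sylow p G) (hab : IsMulCommutative ↥(P : Subgroup G)) {z : G} (hz1 : z ≠ 1)
    (hzp : ∃ k, z ^ p ^ k = 1) {A B : Subgroup G} (hA : A ∈ 𝓐) (hB : B ∈ 𝓐) (hzA : z ∈ A) (hzB : z ∈ B) :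
    A = B := by
  refine eq_of_le_proper h (fun e => hz1 ?_) hA hB (le_centralizer_of_mem (h.2.2 A hA) P hab hzA hzp)
    (le_centralizer_of_mem (h.2.2 B hB) P hab hzB hzp)
  have : z ∈ Subgroup.center G := Subgroup.mem_center_iff.mpr fun g =>
    Subgroup.mem_centralizer_singleton_iff.mp (e ▸ Subgroup.mem_top g)
  rwa [hZ, Subgroup.mem_bot] at this

/-- An abelian non-elementary or cyclic Sylow subgroup lies in a member of the cover. -/
theorem exists_member (hZ : Subgroup.center G = ⊥) {𝓐 : Finset (Subgroup G)} (h : IsNilMinCover 𝓐)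
    (P : Sylow p G) (hab : IsMulCommutative ↥(P : Subgroup G))
    (hP : IsCyclic ↥(P : Subgroup G) ∨ ¬ Cfsg.IsElementaryAbelian p (P : Subgroup G)) :
    ∃ A ∈ 𝓐, (P : Subgroup G) ≤ A := by
  have hpow : ∀ y ∈ (P : Subgroup G), ∃ k, y ^ p ^ k = 1 := fun y hy => by
    obtain ⟨k, hk⟩ := P.isPGroup' ⟨y, hy⟩
    exact ⟨k, by simpa [Subtype.ext_iff] using hk⟩
  rcases hP with hc | hne
  · obtain ⟨⟨g, hg⟩, hgen⟩ := hc.exists_generator
    obtain ⟨A, hA, hgA⟩ := h.1.2 g
    refine ⟨A, hA, fun y hy => ?_⟩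
    obtain ⟨i, hi⟩ := hgen ⟨y, hy⟩
    have := congrArg Subtype.val hi
    simp at this
    exact this ▸ zpow_mem hgA i
  · obtain ⟨x, hx, hxp⟩ : ∃ x ∈ (P : Subgroup G), x ^ p ≠ 1 := by
      by_contra hcon
      push_neg at hcon
      exact hne ⟨hab, hcon⟩
    obtain ⟨A, hA, hxA⟩ := h.1.2 x
    have uniq := fun {z : G} (hz : z ∈ (P : Subgroup G)) (hz1 : z ≠ 1) {B : Subgroup G} (hB : B ∈ 𝓐)
      (hzA : z ∈ A) (hzB : z ∈ B) => member_unique hZ h P hab hz1 (hpow z hz) hA hB hzA hzB
    have hone : ∀ y ∈ (P : Subgroup G), y ^ p = 1 → y ∈ A := fun y hy hyp => by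
      obtain ⟨B, hB, hB'⟩ := h.1.2 (x * y)
      have hxy : (x * y) ^ p = x ^ p := by
        rw [Commute.mul_pow (congrArg Subtype.val (hab.is_comm.comm ⟨x, hx⟩ ⟨y, hy⟩)), hyp, mul_one]
      have := uniq (pow_mem hx p) hxp hB (pow_mem hxA p) (hxy ▸ pow_mem hB' p)
      subst this
      exact (Subgroup.mul_mem_cancel_left _ hxA).mp hB'
    refine ⟨A, hA, fun y hy => ?_⟩
    rcases eq_or_ne y 1 with rfl | hy1
    · exact one_mem _
    obtain ⟨k, hk⟩ := hpow y hy
    obtain ⟨i, -, hi⟩ := (Nat.dvd_prime_pow (Fact.out : p.Prime)).mp (orderOf_dvd_of_pow_eq_one hk)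
    obtain ⟨B, hB, hyB⟩ := h.1.2 y
    cases i with
    | zero => exact absurd (orderOf_eq_one_iff.mp (by simpa using hi)) hy1
    | succ i =>
      have hw1 : y ^ p ^ i ≠ 1 := fun e => by
        have := orderOf_dvd_of_pow_eq_one e
        rw [hi, Nat.pow_dvd_pow_iff_le_right (Fact.out : p.Prime).one_lt] at this
        omega
      have hwp : (y ^ p ^ i) ^ p = 1 := by rw [← pow_mul, ← pow_succ, ← hi, pow_orderOf_eq_one]
      rw [uniq (pow_mem hy _) hw1 hB (hone _ (pow_mem hy _) hwp) (pow_mem hyB _)]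
      exact hyB

theorem conclusions (hZ : Subgroup.center G = ⊥) {𝓐 : Finset (Subgroup G)} (h : IsNilMinCover 𝓐)
    (P : Sylow p G) (hab : IsMulCommutative ↥(P : Subgroup G)) (hnn : ¬ (P : Subgroup G).Normal)
    (hP : IsCyclic ↥(P : Subgroup G) ∨ ¬ Cfsg.IsElementaryAbelian p (P : Subgroup G)) :
    ∃ A ∈ 𝓐, (P : Subgroup G) ≤ A ∧ Subgroup.centralizer ((P : Subgroup G) : Set G) = A ∧
      IsCoatom (Subgroup.normalizer ((P : Subgroup G) : Set G)) ∧
      (∀ M : Subgroup G, IsCoatom M → Subgroup.centralizer ((P : Subgroup G) : Set G) ≤ M →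
        M = Subgroup.normalizer ((P : Subgroup G) : Set G)) ∧
      ∀ g : G, g ∉ Subgroup.normalizer ((P : Subgroup G) : Set G) →
        ¬ p ∣ Nat.card ↥(Subgroup.normalizer ((P : Subgroup G) : Set G) ⊓
          (Subgroup.normalizer ((P : Subgroup G) : Set G)).map (MulAut.conj g).toMonoidHom) := by
  obtain ⟨A, hA, hPA⟩ := exists_member hZ h P hab hP
  have hPne : (P : Subgroup G) ≠ ⊥ := fun e => hnn (e ▸ inferInstance)
  obtain ⟨x, hx, hx1⟩ := (Subgroup.bot_or_exists_ne_one (P : Subgroup G)).resolve_left hPne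
  have hpow : ∀ y ∈ (P : Subgroup G), ∃ k, y ^ p ^ k = 1 := fun y hy => by
    obtain ⟨k, hk⟩ := P.isPGroup' ⟨y, hy⟩
    exact ⟨k, by simpa [Subtype.ext_iff] using hk⟩
  have hAC : A ≤ Subgroup.centralizer ((P : Subgroup G) : Set G) := fun a ha =>
    Subgroup.mem_centralizer_iff.mpr fun y hy =>
      (Subgroup.mem_centralizer_singleton_iff.mp
        (le_centralizer_of_mem (h.2.2 A hA) P hab (hPA hy) (hpow y hy) ha)).symm
  have hCA : Subgroup.centralizer ((P : Subgroup G) : Set G) ≤ A := by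
    suffices A.subgroupOf (Subgroup.centralizer ((P : Subgroup G) : Set G)) = ⊤ from
      Subgroup.subgroupOf_eq_top.mp this
    refine Basics.eq_top_of_sylow_le _ fun q hq _ => ?_
    haveI := hq
    obtain ⟨Q⟩ : Nonempty (Sylow q ↥(Subgroup.centralizer ((P : Subgroup G) : Set G))) := inferInstance
    refine ⟨Q, fun a ha => ?_⟩
    rw [Subgroup.mem_subgroupOf]
    obtain ⟨j, hj⟩ := Q.isPGroup' ⟨a, ha⟩
    have hj' : (a : G) ^ q ^ j = 1 := by simpa [Subtype.ext_iff] using hj
    by_cases hqp : q = p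
    · subst hqp
      have hc : ∀ y ∈ (P : Subgroup G), Commute y (a : G) := fun y hy => Subgroup.mem_centralizer_iff.mp a.2 y hy
      have hg : IsPGroup q ↥(Subgroup.zpowers (a : G)) := by
        obtain ⟨i, -, hi⟩ := (Nat.dvd_prime_pow hq.out).mp (orderOf_dvd_of_pow_eq_one hj')
        exact IsPGroup.of_card (n := i) (by rw [Nat.card_zpowers, hi])
      have hle : Subgroup.zpowers (a : G) ≤ Subgroup.normalizer ((P : Subgroup G) : Set G) := by
        rw [Subgroup.zpowers_le]
        exact Subgroup.centralizer_le_normalizer _ a.2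
      have hsup := hg.to_sup_of_normal_right' P.isPGroup' hle
      exact hPA ((SetLike.ext_iff.mp (P.is_maximal' hsup le_sup_right) _).mp
        (Subgroup.mem_sup_left (Subgroup.mem_zpowers _)))
    · have hc : Commute x (a : G) := Subgroup.mem_centralizer_iff.mp a.2 x hx
      obtain ⟨k, hk⟩ := hpow x hx
      have hco : (orderOf x).Coprime (orderOf (a : G)) :=
        Nat.Coprime.coprime_dvd_left (orderOf_dvd_of_pow_eq_one hk)
          (Nat.Coprime.coprime_dvd_right (orderOf_dvd_of_pow_eq_one hj')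
            (Nat.coprime_pow_primes _ _ Fact.out hq.out (Ne.symm hqp)))
      obtain ⟨B, hB, hB'⟩ := h.1.2 (x * (a : G))
      obtain ⟨hxB, haB⟩ := mem_of_mul_mem hc hco hB'
      rwa [member_unique hZ h P hab hx1 (hpow x hx) hA hB (hPA hx) hxB]
  have hCeq := le_antisymm hCA hAC
  have key : ∀ M : Subgroup G, IsCoatom M → Subgroup.centralizer ((P : Subgroup G) : Set G) ≤ M →
        M = Subgroup.normalizer ((P : Subgroup G) : Set G) := by
    intro M hM hle
    have hMN : M ≤ Subgroup.normalizer ((P : Subgroup G) : Set G) := by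
      intro m hm
      obtain ⟨B, hB, hPB⟩ := exists_member hZ h (m • P)
        (by rw [Sylow.coe_subgroup_smul]
            exact IsMulCommutative.of_comm fun a b => (Subgroup.equivSMul (MulAut.conj m) (P : Subgroup G)).symm.injective
              (by simp [map_mul, hab.is_comm.comm]))
        (hP.imp (fun hc => by
          haveI := hc
          rw [Sylow.coe_subgroup_smul]
          exact isCyclic_of_surjective (Subgroup.equivSMul (MulAut.conj m) (P : Subgroup G))
            (Subgroup.equivSMul (MulAut.conj m) (P : Subgroup G)).surjective)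
          (fun hne he => hne ⟨hab, fun y hy => by
            have := he.2 ((MulAut.conj m) y) (by
              rw [Sylow.coe_subgroup_smul]; exact Subgroup.smul_mem_pointwise_smul _ _ _ hy)
            rwa [← map_pow, MulEquiv.map_eq_one_iff] at this⟩))
      have hxm : MulAut.conj m x ∈ B := hPB (by
        rw [Sylow.coe_subgroup_smul]; exact Subgroup.smul_mem_pointwise_smul _ _ _ hx)
      have hBM : B ≤ M := by
        intro b hb
        have hb' : (MulAut.conj m).symm b ∈ A := by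
          refine hCA (Subgroup.mem_centralizer_iff.mpr fun y hy => (MulAut.conj m).injective ?_)
          have hyB : MulAut.conj m y ∈ B := hPB (by
            rw [Sylow.coe_subgroup_smul]; exact Subgroup.smul_mem_pointwise_smul _ _ _ hy)
          obtain ⟨k, hk⟩ := hpow y hy
          have := Subgroup.mem_centralizer_singleton_iff.mp (le_centralizer_of_mem (h.2.2 B hB) P hab hyB
            ⟨k, by rw [← map_pow, hk, map_one]⟩ hb)
          rw [map_mul, map_mul, MulEquiv.apply_symm_apply]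
          exact this.symm
        have := mul_mem (mul_mem hm (hle (hAC hb'))) (inv_mem hm)
        simpa [MulAut.conj_symm_apply, mul_assoc] using this
      have hAB : A = B := eq_of_le_proper h hM.1 hA hB (hCeq.symm.le.trans hle) hBM
      subst hAB
      have hle2 : ((m • P : Sylow p G) : Subgroup G) ≤ Subgroup.centralizer ((P : Subgroup G) : Set G) :=
        hPB.trans hAC
      have hnorm : ((m • P : Sylow p G) : Subgroup G) ≤ Subgroup.normalizer ((P : Subgroup G) : Set G) :=
        hle2.trans (Subgroup.centralizer_le_normalizer _)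
      have hsup := (m • P).isPGroup'.to_sup_of_normal_right' P.isPGroup' hnorm
      have e1 := P.is_maximal' hsup le_sup_right
      have e2 := (m • P).is_maximal' hsup le_sup_left
      exact Sylow.smul_eq_iff_mem_normalizer.mp (Sylow.ext (e2.symm.trans e1))
    rcases eq_or_lt_of_le hMN with e | e
    · exact e
    · exact absurd (Subgroup.normalizer_eq_top_iff.mp (hM.2 _ e)) hnn
  have hCtop : Subgroup.centralizer ((P : Subgroup G) : Set G) ≠ ⊤ := hCeq ▸ h.1.1 A hA
  obtain ⟨M, hM, hMle⟩ := (eq_top_or_exists_le_coatom _).resolve_left hCtop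
  refine ⟨A, hA, hPA, hCeq, key M hM hMle ▸ hM, key, fun g hg hdvd => hg ?_⟩
  obtain ⟨⟨z, hzm⟩, hzo⟩ := exists_prime_orderOf_dvd_card' p hdvd
  obtain ⟨hz1', hz2'⟩ := Subgroup.mem_inf.mp hzm
  have hzo' : orderOf z = p := by rwa [← Subgroup.orderOf_mk z hzm]
  obtain ⟨w, hw, rfl⟩ := hz2'
  have hmemP : ∀ y ∈ Subgroup.normalizer ((P : Subgroup G) : Set G), orderOf y = p → y ∈ (P : Subgroup G) := by
    intro y hy hyo
    have hg' : IsPGroup p ↥(Subgroup.zpowers y) := IsPGroup.of_card (n := 1) (by rw [Nat.card_zpowers, hyo, pow_one])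
    have hsup := hg'.to_sup_of_normal_right' P.isPGroup' (Subgroup.zpowers_le.mpr hy)
    exact (SetLike.ext_iff.mp (P.is_maximal' hsup le_sup_right) _).mp
      (Subgroup.mem_sup_left (Subgroup.mem_zpowers _))
  have hwo : orderOf w = p := by
    rw [← hzo']; exact (orderOf_injective (MulAut.conj g).toMonoidHom (MulAut.conj g).injective w).symm
  have hz1 := hmemP _ hz1' hzo'
  have hw1 := hmemP w hw hwo
  obtain ⟨B, hB, hB'⟩ := exists_member hZ h (g • P)
        (by rw [Sylow.coe_subgroup_smul]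
            exact IsMulCommutative.of_comm fun a b => (Subgroup.equivSMul (MulAut.conj g) (P : Subgroup G)).symm.injective
              (by simp [map_mul, hab.is_comm.comm]))
        (hP.imp (fun hc => by
          haveI := hc
          rw [Sylow.coe_subgroup_smul]
          exact isCyclic_of_surjective (Subgroup.equivSMul (MulAut.conj g) (P : Subgroup G))
            (Subgroup.equivSMul (MulAut.conj g) (P : Subgroup G)).surjective)
          (fun hne he => hne ⟨hab, fun y hy => by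
            have := he.2 ((MulAut.conj g) y) (by
              rw [Sylow.coe_subgroup_smul]; exact Subgroup.smul_mem_pointwise_smul _ _ _ hy)
            rwa [← map_pow, MulEquiv.map_eq_one_iff] at this⟩))
  have hzne : (MulAut.conj g).toMonoidHom w ≠ 1 := fun e => (Fact.out : p.Prime).one_lt.ne'
    (hzo'.symm.trans (by rw [e, orderOf_one]))
  have hzB : (MulAut.conj g).toMonoidHom w ∈ B := hB' (by
    rw [Sylow.coe_subgroup_smul]; exact Subgroup.smul_mem_pointwise_smul _ _ _ hw1)
  have := member_unique hZ h P hab hzne ⟨1, by rw [pow_one, ← hzo', pow_orderOf_eq_one]⟩ hA hB (hPA hz1) hzB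
  subst this
  have hle2 : ((g • P : Sylow p G) : Subgroup G) ≤ Subgroup.normalizer ((P : Subgroup G) : Set G) :=
    (hB'.trans hAC).trans (Subgroup.centralizer_le_normalizer _)
  have hsup := (g • P).isPGroup'.to_sup_of_normal_right' P.isPGroup' hle2
  exact Sylow.smul_eq_iff_mem_normalizer.mp
    (Sylow.ext (((g • P).is_maximal' hsup le_sup_left).symm.trans (P.is_maximal' hsup le_sup_right)))

end Cfsg.Agent.Cover23
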